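import Mathlib
import Groth.Prelude.Def_HTop2

/-!
# The conductor of a finite birational extension of a seminormal ring
-/

set_option autoImplicit false
set_option linter.all false
set_option backward.isDefEq.respectTransparency false
set_option maxHeartbeats 400000

universe u

open CategoryTheory CategoryTheory.Limits Polynomial

noncomputable section

namespace SNCurveLib

variable {A B : Type u} [CommRing A] [CommRing B] (i : A →+* B)

/-- Elements multiplying the extension into the ring. -/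
def cond : Ideal A where
  carrier := {a | ∀ b, i a * b ∈ i.range}
  zero_mem' b := by simp
  add_mem' {a a'} ha ha' b := by rw [map_add, add_mul]; exact add_mem (ha b) (ha' b)
  smul_mem' c a ha b := by
    rw [smul_eq_mul, map_mul, mul_assoc]
    exact mul_mem ⟨c, rfl⟩ (ha b)

theorem mem_of_sq_cube (hA : HTop.IsSeminormalRing A) (hi : Function.Injective i) [_root_.IsReduced B] (x : B)
    (h2 : x ^ 2 ∈ i.range) (h3 : x ^ 3 ∈ i.range) : x ∈ i.range := by
  obtain ⟨u, hu⟩ := h2
  obtain ⟨v, hv⟩ := h3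
  obtain ⟨a, ⟨rfl, rfl⟩, -⟩ := hA u v (hi (by rw [map_pow, map_pow, hu, hv]; ring))
  rw [map_pow] at hu hv
  refine ⟨a, sub_eq_zero.1 ?_⟩
  have e1 : (i a) ^ 2 * (i a - x) = 0 := by linear_combination hv - x * hu
  have e2 : i a * (i a - x) = 0 := IsReduced.eq_zero _ ⟨2, by linear_combination (i a - x) * e1⟩
  exact IsReduced.eq_zero _ ⟨2, by linear_combination (2 : B) * e2 - hu⟩

theorem mul_mem_of_pow (hA : HTop.IsSeminormalRing A) (hi : Function.Injective i) [_root_.IsReduced B] (b : B) (n : ℕ)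
    (h : ∀ y, b ^ n * y ∈ i.range) (y : B) : b * y ∈ i.range := by
  have key : ∀ k, ∀ y : B, ∀ m, 1 ≤ m → n ≤ m + k → (b * y) ^ m ∈ i.range := by
    intro k
    induction k with
    | zero =>
      intro y m _ hm
      obtain ⟨r, rfl⟩ := Nat.exists_eq_add_of_le (show n ≤ m by omega)
      have e : (b * y) ^ (n + r) = b ^ n * (b ^ r * y ^ (n + r)) := by ring
      exact e ▸ h _
    | succ k ih =>
      intro y m hm1 hm
      refine mem_of_sq_cube i hA hi _ ?_ ?_
      · rw [← pow_mul]; exact ih y _ (by omega) (by omega)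
      · rw [← pow_mul]; exact ih y _ (by omega) (by omega)
  simpa using key n y 1 le_rfl (by omega)

theorem cond_isRadical (hA : HTop.IsSeminormalRing A) (hi : Function.Injective i) [_root_.IsReduced B] :
    (cond i).IsRadical := fun a ⟨n, hn⟩ b => mul_mem_of_pow i hA hi (i a) n (fun y => map_pow i a n ▸ hn y) b

theorem map_le_cond {J : Ideal A} (hJ : J ≤ cond i) {z : B} (hz : z ∈ J.map i) : ∃ a ∈ cond i, i a = z := by
  induction hz using Submodule.span_induction with
  | mem x hx => obtain ⟨a, ha, rfl⟩ := hx; exact ⟨a, hJ ha, rfl⟩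
  | zero => exact ⟨0, zero_mem _, map_zero i⟩
  | add x y _ _ hx hy =>
    obtain ⟨a, ha, rfl⟩ := hx
    obtain ⟨a', ha', rfl⟩ := hy
    exact ⟨a + a', add_mem ha ha', map_add _ _ _⟩
  | smul c x _ hx =>
    obtain ⟨a, ha, rfl⟩ := hx
    obtain ⟨a', ha'⟩ := ha c
    refine ⟨a', fun b => ?_, by rw [ha', smul_eq_mul, mul_comm]⟩
    rw [ha', mul_assoc]
    exact ha _

variable (hi : Function.Injective i) (hfin : i.Finite) (t : A) (ht : ∀ b : B, i t * b = 0 → b = 0)
  (hloc : ∀ b : B, ∃ (n : ℕ) (a : A), i a = i t ^ n * b)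

include ht in
theorem pow_cancel (n : ℕ) (b : B) (h : i t ^ n * b = 0) : b = 0 := by
  induction n generalizing b with
  | zero => simpa using h
  | succ n ih => exact ht _ (ih _ (by rw [← mul_assoc, ← pow_succ]; exact h))

include hfin hloc in
theorem pow_mem_cond : ∃ N, t ^ N ∈ cond i := by
  letI := i.toAlgebra
  haveI : Module.Finite A B := hfin
  obtain ⟨S, hS⟩ := Module.Finite.fg_top (R := A) (M := B)
  choose n a ha using hloc
  refine ⟨S.sup n, fun b => ?_⟩
  have hb : b ∈ Submodule.span A (S : Set B) := hS ▸ Submodule.mem_top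
  induction hb using Submodule.span_induction with
  | mem x hx =>
    obtain ⟨r, hr⟩ := Nat.exists_eq_add_of_le (Finset.le_sup (f := n) hx)
    exact ⟨t ^ r * a x, by rw [map_mul, map_pow, map_pow, ha, hr]; ring⟩
  | zero => simp
  | add x y _ _ hx hy => rw [mul_add]; exact add_mem hx hy
  | smul c x _ hx =>
    rw [Algebra.smul_def, ← mul_assoc, mul_comm (i _), mul_assoc]
    exact mul_mem ⟨c, rfl⟩ hx

include hi hfin ht hloc in
theorem not_cond_le (p : Ideal A) [p.IsPrime] [IsDomain (Localization.AtPrime p)]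
    [IsIntegrallyClosed (Localization.AtPrime p)] (htp : algebraMap A (Localization.AtPrime p) t ≠ 0) :
    ¬ cond i ≤ p := by
  letI := i.toAlgebra
  haveI : Module.Finite A B := hfin
  have key : ∀ b : B, ∃ s, s ∉ p ∧ i s * b ∈ i.range := by
    intro b
    obtain ⟨n, a, ha⟩ := hloc b
    obtain ⟨P, hPm, hP⟩ := hfin.to_isIntegral b
    let K := FractionRing (Localization.AtPrime p)
    let g : A →+* K := (algebraMap (Localization.AtPrime p) K).comp (algebraMap A (Localization.AtPrime p))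
    have hg : g (t ^ n) ≠ 0 := by
      rw [map_pow]
      exact pow_ne_zero _ ((map_ne_zero_iff (algebraMap (Localization.AtPrime p) K) (IsFractionRing.injective _ _)).2 htp)
    have hQ : (P.scaleRoots (t ^ n)).eval a = 0 := hi (by
      rw [map_zero, ← eval₂_at_apply, ha, ← map_pow]
      exact scaleRoots_eval₂_eq_zero i hP)
    have hz : IsIntegral (Localization.AtPrime p) (g a / g (t ^ n)) := by
      refine ⟨P.map (algebraMap A (Localization.AtPrime p)), hPm.map _, ?_⟩
      rw [eval₂_map]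
      refine (mul_eq_zero.1 ((scaleRoots_eval₂_mul g (p := P) (g a / g (t ^ n)) (t ^ n)).symm.trans ?_)).resolve_left
        (pow_ne_zero _ hg)
      rw [mul_div_cancel₀ _ hg, eval₂_at_apply, hQ, map_zero]
    obtain ⟨w, hw⟩ := IsIntegrallyClosed.algebraMap_eq_of_integral hz
    obtain ⟨⟨a', s⟩, hs⟩ := IsLocalization.surj p.primeCompl w
    have e : algebraMap A (Localization.AtPrime p) (s * a) = algebraMap A (Localization.AtPrime p) (a' * t ^ n) := by
      refine IsFractionRing.injective (Localization.AtPrime p) K ?_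
      show g (s * a) = g (a' * t ^ n)
      have h1 : algebraMap (Localization.AtPrime p) K w * g s = g a' := by
        rw [← show algebraMap _ K (w * algebraMap A (Localization.AtPrime p) s) = g a' from congrArg _ hs, map_mul]
        rfl
      rw [hw, div_mul_eq_mul_div, div_eq_iff hg] at h1
      rw [map_mul, map_mul, mul_comm, h1]
    obtain ⟨u, hu⟩ := (IsLocalization.eq_iff_exists p.primeCompl _).1 e
    refine ⟨u * s, (u * s).2, u * a', ?_⟩
    refine sub_eq_zero.1 (pow_cancel i t ht n _ ?_)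
    have h2 := congrArg i hu
    simp only [map_mul, map_pow, ha] at h2
    simp only [Submonoid.coe_mul, map_mul]
    linear_combination -h2
  obtain ⟨S, hS⟩ := Module.Finite.fg_top (R := A) (M := B)
  choose s hs hs' using key
  classical
  intro hle
  refine (IsLocalRing.notMem_maximalIdeal (R := Localization.AtPrime p)).2 ?_ (?_ : algebraMap A _ (∏ x ∈ S, s x) ∈ _)
  · exact IsLocalization.map_units (M := p.primeCompl) _ ⟨_, prod_mem (S := p.primeCompl) fun x _ => hs x⟩
  · rw [← Localization.AtPrime.map_eq_maximalIdeal]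
    refine Ideal.mem_map_of_mem _ (hle fun b => ?_)
    have hb : b ∈ Submodule.span A (S : Set B) := hS ▸ Submodule.mem_top
    induction hb using Submodule.span_induction with
    | mem x hx =>
      rw [← Finset.prod_erase_mul _ _ hx, map_mul, mul_assoc]
      exact mul_mem ⟨_, rfl⟩ (hs' x)
    | zero => simp
    | add x y _ _ hx hy => rw [mul_add]; exact add_mem hx hy
    | smul c x _ hx =>
      rw [Algebra.smul_def, ← mul_assoc, mul_comm (i _), mul_assoc]
      exact mul_mem ⟨c, rfl⟩ hx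

include hfin hloc in
theorem isMaximal_of_cond_le [IsNoetherianRing A] (htmin : ∀ q ∈ minimalPrimes A, t ∉ q)
    (hchain : ∀ q₀ q₁ q₂ : Ideal A, q₀.IsPrime → q₁.IsPrime → q₂.IsPrime → q₀ < q₁ → q₁ < q₂ → False)
    (p : Ideal A) [p.IsPrime] (hp : cond i ≤ p) : p.IsMaximal ∧ p ∈ (cond i).minimalPrimes := by
  obtain ⟨N, hN⟩ := pow_mem_cond i hfin t hloc
  have nm : ∀ q : Ideal A, q.IsPrime → cond i ≤ q → ∃ q₀ : Ideal A, q₀.IsPrime ∧ q₀ < q := fun q hq hle => by
    haveI := hq
    obtain ⟨q₀, hq₀, hle'⟩ := Ideal.exists_minimalPrimes_le (bot_le : (⊥ : Ideal A) ≤ q)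
    refine ⟨q₀, hq₀.1.1, lt_of_le_of_ne hle' fun e => ?_⟩
    exact htmin q₀ hq₀ (e ▸ hq.mem_of_pow_mem N (hle hN))
  constructor
  · obtain ⟨M, hM, hle⟩ := Ideal.exists_le_maximal p (Ideal.IsPrime.ne_top ‹_›)
    rcases hle.eq_or_lt with rfl | hlt
    · exact hM
    · obtain ⟨q₀, hq₀, hlt₀⟩ := nm p ‹_› hp
      exact (hchain _ _ _ hq₀ ‹_› hM.isPrime hlt₀ hlt).elim
  · refine ⟨⟨‹_›, hp⟩, fun q ⟨hq, hle⟩ hqp => ?_⟩
    rcases hqp.eq_or_lt with rfl | hlt
    · exact le_rfl
    · obtain ⟨q₀, hq₀, hlt₀⟩ := nm q hq hle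
      exact (hchain _ _ _ hq₀ hq ‹_› hlt₀ hlt).elim

theorem exists_mul_le_cond [IsNoetherianRing A] (hrad : (cond i).IsRadical) (p : Ideal A) [p.IsPrime]
    (hp : p ∈ (cond i).minimalPrimes) : ∃ s, s ∉ p ∧ ∀ y ∈ p, s * y ∈ cond i := by
  classical
  let F := ((cond i).finite_minimalPrimes_of_isNoetherianRing A).toFinset.erase p
  have hne : ∀ q ∈ F, ∃ z ∈ q, z ∉ p := fun q hq => by
    obtain ⟨hne, hq⟩ := Finset.mem_erase.1 hq
    exact SetLike.not_le_iff_exists.1 fun hle => hne (le_antisymm hle (hp.2 ((Set.Finite.mem_toFinset _).1 hq).1 hle))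
  choose! z hz hzp using hne
  refine ⟨∏ q ∈ F, z q, fun h => ?_, fun y hy => ?_⟩
  · obtain ⟨q, hq, h⟩ := (Ideal.IsPrime.prod_mem_iff).1 h
    exact hzp q hq h
  · rw [← hrad.radical, ← Ideal.sInf_minimalPrimes, Submodule.mem_sInf]
    intro q hq
    by_cases h : q = p
    · exact Ideal.mul_mem_left q _ (h ▸ hy)
    · refine Ideal.mul_mem_right _ q (Ideal.mem_of_dvd q (Finset.dvd_prod_of_mem z ?_) (hz q ?_)) <;>
        exact Finset.mem_erase.2 ⟨h, (Set.Finite.mem_toFinset _).2 hq⟩

theorem isRadical_map (hA : HTop.IsSeminormalRing A) (hi : Function.Injective i) [_root_.IsReduced B]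
    (p : Ideal A) [p.IsMaximal] (hp : cond i ≤ p) (s : A) (hs : s ∉ p) (hsp : ∀ y ∈ p, s * y ∈ cond i) :
    (p.map i).IsRadical := by
  rintro b ⟨n, hn⟩
  have hmul : ∀ z ∈ p.map i, ∀ y, i s * z * y ∈ i.range := by
    intro z hz
    induction hz using Submodule.span_induction with
    | mem x hx => obtain ⟨a, ha, rfl⟩ := hx; intro y; rw [← map_mul]; exact hsp a ha y
    | zero => simp
    | add x x' _ _ h h' => intro y; rw [mul_add, add_mul]; exact add_mem (h y) (h' y)
    | smul c x _ h =>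
      intro y
      rw [smul_eq_mul, show i s * (c * x) * y = i s * x * (c * y) by ring]
      exact h _
  have hsb : ∀ y, i s * b * y ∈ i.range := fun y =>
    mul_mem_of_pow i hA hi (i s * b) (n + 1) (fun y => by
      rw [show (i s * b) ^ (n + 1) * y = i s * b ^ n * (i s ^ n * b * y) by ring]
      exact hmul _ hn _) y
  obtain ⟨r, hr⟩ := hsb 1
  rw [mul_one] at hr
  have hrp : r ∈ p := hp fun y => hr ▸ hsb y
  obtain ⟨v, π, hπ, huv⟩ := Ideal.IsMaximal.exists_inv ‹p.IsMaximal› hs
  have : b = i v * i r + i π * b := by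
    rw [hr, ← mul_assoc, ← map_mul, ← add_mul, ← map_add, huv, map_one, one_mul]
  rw [this]
  exact add_mem (Ideal.mul_mem_left _ _ (Ideal.mem_map_of_mem _ hrp))
    (Ideal.mul_mem_right _ _ (Ideal.mem_map_of_mem _ hπ))

variable {A' B' K P : CommRingCat.{u}} {j : A' ⟶ B'} {φ : A' ⟶ K} {l : B' ⟶ P} {r : K ⟶ P} (h : IsPushout j φ l r)

include h in
theorem eq_top_of_range_le (S : Subring P) (hl : ∀ b, l b ∈ S) (hr : ∀ z, r z ∈ S) (x : P) : x ∈ S := by
  let l' : B' ⟶ CommRingCat.of S := CommRingCat.ofHom (l.hom.codRestrict S hl)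
  let r' : K ⟶ CommRingCat.of S := CommRingCat.ofHom (r.hom.codRestrict S hr)
  have w : j ≫ l' = φ ≫ r' := by
    ext a
    exact congr($(h.w) a)
  have : h.desc l' r' w ≫ CommRingCat.ofHom S.subtype = 𝟙 P := by
    apply h.hom_ext
    · rw [h.inl_desc_assoc, Category.comp_id]; rfl
    · rw [h.inr_desc_assoc, Category.comp_id]; rfl
  have h2 : (h.desc l' r' w x).1 = x := congr($(this) x)
  exact h2 ▸ (h.desc l' r' w x).2

include h in
theorem ker_le (hφ : Function.Surjective φ) (I : Ideal B') (hI : ∀ a, φ a = 0 → j a ∈ I) {b : B'} (hb : l b = 0) :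
    b ∈ I := by
  let r' : K →+* B' ⧸ I := RingHom.liftOfSurjective φ.hom hφ
    ⟨(Ideal.Quotient.mk I).comp j.hom, fun a ha => Ideal.Quotient.eq_zero_iff_mem.2 (hI a ha)⟩
  have w : j ≫ CommRingCat.ofHom (Ideal.Quotient.mk I) = φ ≫ CommRingCat.ofHom r' := by
    ext a
    show Ideal.Quotient.mk I (j a) = r' (φ.hom a)
    simp [r', RingHom.liftOfSurjective, RingHom.liftOfRightInverse_comp_apply]
  have := congr($(h.inl_desc _ _ w) b)
  rw [CommRingCat.comp_apply, hb, map_zero] at this
  exact Ideal.Quotient.eq_zero_iff_mem.1 this.symm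

include h in
theorem isReduced_of_mul_mem (hK : IsField K) (s : A') (hs : φ s ≠ 0) (hsB : ∀ b, j s * b ∈ j.hom.range) :
    _root_.IsReduced P := by
  letI := hK.toField
  have hsurj : Function.Surjective r := fun x => by
    refine eq_top_of_range_le h r.hom.range (fun b => ?_) (fun z => ⟨z, rfl⟩) x
    obtain ⟨a, ha⟩ := hsB b
    refine ⟨φ a * (φ s)⁻¹, ?_⟩
    have e : ∀ a, l (j a) = r (φ a) := fun a => congr($(h.w) a)
    have h1 : r (φ s) * l b = r (φ a) := by rw [← e, ← e, ← map_mul, ← ha]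
    rw [map_mul, ← h1, mul_right_comm, ← map_mul, mul_inv_cancel₀ hs, map_one, one_mul]
  refine ⟨fun x ⟨n, hn⟩ => ?_⟩
  rcases subsingleton_or_nontrivial P with hP | hP
  · exact Subsingleton.elim _ _
  obtain ⟨z, rfl⟩ := hsurj x
  rw [← map_pow, map_eq_zero] at hn
  rw [pow_eq_zero_iff'] at hn
  rw [hn.1, map_zero]

include h in
theorem isReduced_of_surjective (hφ : Function.Surjective φ) (hrad : ((RingHom.ker φ.hom).map j.hom).IsRadical) :
    _root_.IsReduced P := by
  have e : ∀ a, l (j a) = r (φ a) := fun a => congr($(h.w) a)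
  have hsurj : Function.Surjective l := fun x => by
    refine eq_top_of_range_le h l.hom.range (fun b => ⟨b, rfl⟩) (fun z => ?_) x
    obtain ⟨a, rfl⟩ := hφ z
    exact ⟨_, e a⟩
  have hker : RingHom.ker l.hom ≤ (RingHom.ker φ.hom).map j.hom := fun b hb =>
    ker_le h hφ _ (fun a ha => Ideal.mem_map_of_mem _ ha) hb
  refine ⟨fun x ⟨n, hn⟩ => ?_⟩
  obtain ⟨b, rfl⟩ := hsurj x
  rw [← map_pow] at hn
  have hb := hrad ⟨n, hker hn⟩
  have : (RingHom.ker φ.hom).map j.hom ≤ RingHom.ker l.hom := Ideal.map_le_iff_le_comap.2 fun a ha => by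
    show l (j a) = 0
    rw [e, show φ a = 0 from ha, map_zero]
  exact this hb

end SNCurveLib
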