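import Mathlib

/-!
# Pushouts of ringed spaces are pushouts of schemes
-/

set_option autoImplicit false
set_option linter.all false
set_option backward.isDefEq.respectTransparency false
set_option backward.isDefEq.respectTransparency.types false

universe u

open CategoryTheory CategoryTheory.Limits AlgebraicGeometry TopologicalSpace

noncomputable section

namespace SNCurveLib

abbrev toRS : Scheme.{u} ⥤ SheafedSpace CommRingCat.{u} :=
  Scheme.forgetToLocallyRingedSpace ⋙ LocallyRingedSpace.forgetToSheafedSpace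

theorem isLocalHom_stalkMap_of_comp {X P T : Scheme.{u}} (π : X ⟶ P) (g : X ⟶ T) (φ : toRS.obj P ⟶ toRS.obj T)
    (h : toRS.map π ≫ φ = toRS.map g) (y : X) : IsLocalHom (φ.hom.stalkMap (π y)).hom := by
  have h1 : ∀ ψ : toRS.obj X ⟶ toRS.obj T, ψ = toRS.map g → IsLocalHom (ψ.hom.stalkMap y).hom := by
    rintro _ rfl
    exact g.toLRSHom.prop y
  have h2 := h1 _ h
  have e : ((toRS.map π ≫ φ).hom.stalkMap y) = φ.hom.stalkMap (π y) ≫ (toRS.map π).hom.stalkMap y :=
    PresheafedSpace.stalkMap.comp _ _ _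
  rw [e, CommRingCat.hom_comp] at h2
  haveI := h2
  exact isLocalHom_of_comp _ ((toRS.map π).hom.stalkMap y).hom

theorem faithful_toRS {P T : Scheme.{u}} {a b : P ⟶ T} (h : toRS.map a = toRS.map b) : a = b :=
  toRS.map_injective h

/-- A pushout in ringed spaces of schemes is a pushout in schemes. -/
theorem isPushout_of_ringedSpace {X Z Z' P : Scheme.{u}} {ι : Z ⟶ X} {q : Z ⟶ Z'} {π : X ⟶ P} {ι' : Z' ⟶ P}
    (hw : ι ≫ π = q ≫ ι') (hpo : IsPushout (toRS.map ι) (toRS.map q) (toRS.map π) (toRS.map ι'))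
    (hsurj : ∀ p : P, (∃ y, π y = p) ∨ ∃ z, ι' z = p) : IsPushout ι q π ι' := by
  have key : ∀ s : PushoutCocone ι q, ∃ φ : P ⟶ s.pt, π ≫ φ = s.inl ∧ ι' ≫ φ = s.inr := by
    intro s
    have w : toRS.map ι ≫ toRS.map s.inl = toRS.map q ≫ toRS.map s.inr := by
      rw [← toRS.map_comp, ← toRS.map_comp, s.condition]
    let φ := hpo.desc (toRS.map s.inl) (toRS.map s.inr) w
    have h₁ : toRS.map π ≫ φ = toRS.map s.inl := hpo.inl_desc _ _ _
    have h₂ : toRS.map ι' ≫ φ = toRS.map s.inr := hpo.inr_desc _ _ _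
    have hloc : ∀ p : P, IsLocalHom (φ.hom.stalkMap p).hom := fun p => by
      rcases hsurj p with ⟨y, rfl⟩ | ⟨z, rfl⟩
      · exact isLocalHom_stalkMap_of_comp π s.inl φ h₁ y
      · exact isLocalHom_stalkMap_of_comp ι' s.inr φ h₂ z
    let ψ : P ⟶ s.pt := ⟨(LocallyRingedSpace.homMk φ hloc : P.toLocallyRingedSpace ⟶ s.pt.toLocallyRingedSpace)⟩
    have hψ : toRS.map ψ = φ := rfl
    exact ⟨ψ, faithful_toRS (by rw [toRS.map_comp, hψ, h₁]), faithful_toRS (by rw [toRS.map_comp, hψ, h₂])⟩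
  choose φ h₁ h₂ using key
  exact IsPushout.of_isColimit' ⟨hw⟩ (PushoutCocone.IsColimit.mk hw φ h₁ h₂ fun s m hm₁ hm₂ =>
    faithful_toRS (hpo.hom_ext (by rw [← toRS.map_comp, ← toRS.map_comp, hm₁, h₁])
      (by rw [← toRS.map_comp, ← toRS.map_comp, hm₂, h₂])))

end SNCurveLib
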