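import Mathlib
import Groth.Prelude.Def_Pi1
import Groth.Agent.SNCurveLib.Alg
import Groth.Agent.SNCurveLib.Push
import Groth.Agent.PinchBCLib.Criterion
import Groth.Agent.AWNLib.Scheme
import Groth.Agent.SeminormResLib.Descent
import Groth.Agent.NormalLib.Regular
import Groth.Agent.CommAlgDim.Regular
import Groth.Agent.CurveFamNormLib.App

/-!
# The normalization square of a seminormal curve
-/

set_option autoImplicit false
set_option linter.all false
set_option backward.isDefEq.respectTransparency false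
set_option backward.isDefEq.respectTransparency.types false
set_option maxHeartbeats 400000

universe u

open CategoryTheory CategoryTheory.Limits AlgebraicGeometry TopologicalSpace

noncomputable section

namespace SNCurveLib

theorem exists_fromSpec {A : Scheme.{u}} {U : A.Opens} (hU : IsAffineOpen U) {x : A} (hx : x ∈ U) :
    ∃ P : PrimeSpectrum Γ(A, U), hU.fromSpec P = x := by
  have : x ∈ Set.range hU.fromSpec := by rw [hU.range_fromSpec]; exact hx
  exact this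

theorem fromSpec_mem {A : Scheme.{u}} {U : A.Opens} (hU : IsAffineOpen U) (P : PrimeSpectrum Γ(A, U)) :
    hU.fromSpec P ∈ U := by
  have h : hU.fromSpec P ∈ Set.range hU.fromSpec := Set.mem_range_self P
  rw [hU.range_fromSpec] at h
  exact h

variable {C Cn D : Scheme.{u}} [IsReduced C] [IsLocallyNoetherian C] (ν : Cn ⟶ C) [IsFinite ν] [IsReduced Cn]
  [Surjective ν] (U : C.Opens) (hU : Dense (U : Set C)) (hU' : Dense ((ν ⁻¹ᵁ U : Cn.Opens) : Set Cn)) [IsIso (ν ∣_ U)]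

include hU in
theorem exists_t_base {U₀ : C.Opens} (hU₀ : IsAffineOpen U₀) :
    ∃ t : Γ(C, U₀), (∀ q ∈ minimalPrimes Γ(C, U₀), t ∉ q) ∧ C.basicOpen t ≤ U := by
  classical
  haveI : IsNoetherianRing Γ(C, U₀) := IsLocallyNoetherian.component_noetherian ⟨U₀, hU₀⟩
  let O : Set (PrimeSpectrum Γ(C, U₀)) := hU₀.fromSpec ⁻¹' (U : Set C)
  have hO : IsOpen O := U.2.preimage hU₀.fromSpec.continuous
  have hOd : Dense O := hU.preimage hU₀.fromSpec.isOpenEmbedding.isOpenMap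
  let I := PrimeSpectrum.vanishingIdeal Oᶜ
  have hfin : (minimalPrimes Γ(C, U₀)).Finite := minimalPrimes.finite_of_isNoetherianRing _
  have hmem : ∀ q (hq : q ∈ minimalPrimes Γ(C, U₀)), (⟨q, hq.1.1⟩ : PrimeSpectrum Γ(C, U₀)) ∈ O := by
    intro q hq
    let N : Set (PrimeSpectrum Γ(C, U₀)) := ⋂ q' ∈ hfin.toFinset.erase q, (PrimeSpectrum.zeroLocus (q' : Set Γ(C, U₀)))ᶜ
    have hN : IsOpen N := isOpen_biInter_finset fun q' _ => (PrimeSpectrum.isClosed_zeroLocus _).isOpen_compl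
    have hqN : (⟨q, hq.1.1⟩ : PrimeSpectrum Γ(C, U₀)) ∈ N := Set.mem_iInter₂.2 fun q' hq' hle => by
      obtain ⟨hne, hq'⟩ := Finset.mem_erase.1 hq'
      exact hne (le_antisymm hle (hq.2 (hfin.mem_toFinset.1 hq').1 hle))
    obtain ⟨r, hrN, hrO⟩ := hOd.inter_open_nonempty N hN ⟨_, hqN⟩
    obtain ⟨q', hq', hle⟩ := Ideal.exists_minimalPrimes_le (bot_le : (⊥ : Ideal Γ(C, U₀)) ≤ r.asIdeal)
    obtain rfl : q' = q := by
      by_contra hne
      exact Set.mem_iInter₂.1 hrN q' (Finset.mem_erase.2 ⟨hne, hfin.mem_toFinset.2 hq'⟩) hle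
    exact ((PrimeSpectrum.le_iff_specializes ⟨q', hq.1.1⟩ r).1 hle).mem_open hO hrO
  obtain ⟨t, htI, ht⟩ : ∃ t ∈ I, ∀ q ∈ minimalPrimes Γ(C, U₀), t ∉ q := by
    by_contra h
    push Not at h
    obtain ⟨q, hq, hle⟩ := (Ideal.subset_union_prime (s := hfin.toFinset) (f := fun q => q) ⊥ ⊥
      (fun q hq _ _ => (hfin.mem_toFinset.1 hq).1.1)).1 (show (I : Set Γ(C, U₀)) ⊆ _ from fun t ht => by
        obtain ⟨q, hq, htq⟩ := h t ht
        exact Set.mem_biUnion (hfin.mem_toFinset.2 hq) htq)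
    have : (⟨q, (hfin.mem_toFinset.1 hq).1.1⟩ : PrimeSpectrum Γ(C, U₀)) ∈ Oᶜ := by
      rw [← hO.isClosed_compl.closure_eq, ← PrimeSpectrum.zeroLocus_vanishingIdeal_eq_closure]
      exact hle
    exact this (hmem q (hfin.mem_toFinset.1 hq))
  refine ⟨t, ht, fun x hx => ?_⟩
  obtain ⟨P, rfl⟩ := exists_fromSpec hU₀ (C.basicOpen_le t hx)
  by_contra hP
  have h1 : P ∈ hU₀.fromSpec ⁻¹ᵁ C.basicOpen t := hx
  rw [hU₀.fromSpec_preimage_basicOpen] at h1
  exact h1 ((PrimeSpectrum.mem_vanishingIdeal _ _).1 htI P hP)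

include hU' in
theorem eq_zero_of_mul {U₀ : C.Opens} (hU₀ : IsAffineOpen U₀) {t : Γ(C, U₀)}
    (ht : ∀ q ∈ minimalPrimes Γ(C, U₀), t ∉ q) (b : Γ(Cn, ν ⁻¹ᵁ U₀)) (h : ν.app U₀ t * b = 0) : b = 0 := by
  refine eq_zero_of_basicOpen_eq_bot b (eq_bot_iff.2 fun y hy => ?_)
  exfalso
  obtain ⟨y', hy', hy'U⟩ := hU'.inter_open_nonempty _ (Cn.basicOpen b).2 ⟨y, hy⟩
  let M : Set (ν ⁻¹ᵁ U : Cn.Opens) := Subtype.val ⁻¹' (Cn.basicOpen b : Set Cn)
  have hM : IsOpen M := (Cn.basicOpen b).2.preimage continuous_subtype_val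
  have hIm : IsOpen (U.ι '' ((ν ∣_ U) '' M)) :=
    U.ι.isOpenEmbedding.isOpenMap _ ((ν ∣_ U).isOpenEmbedding.isOpenMap _ hM)
  have key : ∀ z ∈ U.ι '' ((ν ∣_ U) '' M), ∃ w ∈ Cn.basicOpen b, ν w = z := by
    rintro _ ⟨_, ⟨w, hw, rfl⟩, rfl⟩
    refine ⟨w.1, hw, ?_⟩
    exact congr($(morphismRestrict_ι ν U) w).symm
  have hyIm : ν y' ∈ U.ι '' ((ν ∣_ U) '' M) :=
    ⟨_, ⟨⟨y', hy'U⟩, hy', rfl⟩, congr($(morphismRestrict_ι ν U) ⟨y', hy'U⟩)⟩
  obtain ⟨P, hP⟩ := exists_fromSpec hU₀ (show ν y' ∈ U₀ from Cn.basicOpen_le b hy')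
  obtain ⟨q, hq, hle⟩ := Ideal.exists_minimalPrimes_le (bot_le : (⊥ : Ideal Γ(C, U₀)) ≤ P.asIdeal)
  have hq' : hU₀.fromSpec ⟨q, hq.1.1⟩ ∈ U.ι '' ((ν ∣_ U) '' M) :=
    ((PrimeSpectrum.le_iff_specializes ⟨q, hq.1.1⟩ P).1 hle).mem_open (hIm.preimage hU₀.fromSpec.continuous)
      (show hU₀.fromSpec P ∈ _ from hP ▸ hyIm)
  obtain ⟨w, hw, hwq⟩ := key _ hq'
  have hwt : w ∈ Cn.basicOpen (ν.app U₀ t) := by
    rw [← Scheme.preimage_basicOpen]
    show ν w ∈ C.basicOpen t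
    rw [hwq]
    have : (⟨q, hq.1.1⟩ : PrimeSpectrum Γ(C, U₀)) ∈ hU₀.fromSpec ⁻¹ᵁ C.basicOpen t := by
      rw [hU₀.fromSpec_preimage_basicOpen]
      exact ht q hq
    exact this
  have : w ∈ Cn.basicOpen (ν.app U₀ t * b) := by
    rw [Scheme.basicOpen_mul]
    exact ⟨hwt, hw⟩
  rw [h, Scheme.basicOpen_zero] at this
  exact this

include hU' in
theorem exists_pow_mul {U₀ : C.Opens} (hU₀ : IsAffineOpen U₀) {t : Γ(C, U₀)}
    (ht : ∀ q ∈ minimalPrimes Γ(C, U₀), t ∉ q) (hle : C.basicOpen t ≤ U) (b : Γ(Cn, ν ⁻¹ᵁ U₀)) :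
    ∃ (n : ℕ) (a : Γ(C, U₀)), ν.app U₀ a = ν.app U₀ t ^ n * b := by
  haveI := CurveFamNormLib.isIso_app_of_le ν (U := U) hle
  have hbij := ConcreteCategory.bijective_of_isIso (ν.app (C.basicOpen t))
  obtain ⟨z, hz⟩ := hbij.2 (Cn.presheaf.map (homOfLE (ν.preimage_mono (C.basicOpen_le t))).op b)
  haveI := hU₀.isLocalization_basicOpen t
  obtain ⟨n, a, hn⟩ := IsLocalization.Away.surj t z
  replace hn : z * C.presheaf.map (homOfLE (C.basicOpen_le t)).op t ^ n = C.presheaf.map (homOfLE (C.basicOpen_le t)).op a := hn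
  refine ⟨n, a, ?_⟩
  have nat : ∀ d, ν.app (C.basicOpen t) (C.presheaf.map (homOfLE (C.basicOpen_le t)).op d) =
      Cn.presheaf.map (homOfLE (ν.preimage_mono (C.basicOpen_le t))).op (ν.app U₀ d) := fun d => by
    rw [← CommRingCat.comp_apply, ν.naturality]
    rfl
  have h1 : Cn.presheaf.map (homOfLE (ν.preimage_mono (C.basicOpen_le t))).op (ν.app U₀ a) =
      Cn.presheaf.map (homOfLE (ν.preimage_mono (C.basicOpen_le t))).op (ν.app U₀ t ^ n * b) := by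
    rw [← nat, ← hn, map_mul, map_mul, map_pow, map_pow, hz, ← nat, mul_comm]
  haveI := (hU₀.preimage ν).isLocalization_basicOpen (ν.app U₀ t)
  have h2 : Cn.presheaf.map (homOfLE (Cn.basicOpen_le (ν.app U₀ t))).op (ν.app U₀ a) =
      Cn.presheaf.map (homOfLE (Cn.basicOpen_le (ν.app U₀ t))).op (ν.app U₀ t ^ n * b) := by
    have := congrArg (Cn.presheaf.map (homOfLE (Scheme.preimage_basicOpen ν t).ge).op) h1
    have nat2 : ∀ z, Cn.presheaf.map (homOfLE (Scheme.preimage_basicOpen ν t).ge).op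
        (Cn.presheaf.map (homOfLE (ν.preimage_mono (C.basicOpen_le t))).op z) =
        Cn.presheaf.map (homOfLE (Cn.basicOpen_le (ν.app U₀ t))).op z := fun z => by
      rw [← CommRingCat.comp_apply, ← Functor.map_comp]
      rfl
    rwa [nat2, nat2] at this
  obtain ⟨m, hm⟩ := IsLocalization.Away.exists_of_eq (S := Γ(Cn, Cn.basicOpen (ν.app U₀ t))) (ν.app U₀ t) h2
  exact sub_eq_zero.1 (pow_cancel (ν.app U₀).hom t (eq_zero_of_mul ν U hU' hU₀ ht) m _
    (show ν.app U₀ t ^ m * (_ - _) = 0 by rw [mul_sub]; exact sub_eq_zero.2 hm))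

/-- At most one specialization step inside the scheme. -/
def NoChain (C : Scheme.{u}) : Prop := ∀ x₀ x₁ x₂ : C, x₀ ⤳ x₁ → x₁ ⤳ x₂ → x₀ ≠ x₁ → x₁ ≠ x₂ → False

theorem noChain_of_components (hdim : ∀ W ∈ irreducibleComponents (C : Type u), topologicalKrullDim W = 1) :
    NoChain C := by
  intro x₀ x₁ x₂ h₀₁ h₁₂ hne₀₁ hne₁₂
  obtain ⟨W, hW, hle⟩ := exists_mem_irreducibleComponents_subset_of_isIrreducible (closure {x₀}) isIrreducible_singleton.closure
  have hk : Order.krullDim (IrreducibleCloseds W) ≤ 1 := (hdim W hW).le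
  have hm : ∀ z, x₀ ⤳ z → z ∈ W := fun z hz => hle hz.mem_closure
  let c : W → IrreducibleCloseds W := fun w => ⟨closure {w}, isIrreducible_singleton.closure, isClosed_closure⟩
  have lt : ∀ a b : W, a.1 ⤳ b.1 → a.1 ≠ b.1 → c b < c a := fun a b hs hne => by
    have hs' : a ⤳ b := (subtype_specializes_iff a b).2 hs
    refine lt_of_le_not_ge (fun z hz => closure_minimal (Set.singleton_subset_iff.2 hs'.mem_closure) isClosed_closure hz) ?_
    intro hge
    have : b ⤳ a := specializes_iff_mem_closure.2 (hge (subset_closure rfl))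
    exact hne (congrArg Subtype.val (hs'.antisymm this).eq)
  rcases Order.krullDim_le_one_iff.1 hk (c ⟨x₁, hm _ h₀₁⟩) with h | h
  · exact (lt ⟨x₁, hm _ h₀₁⟩ ⟨x₂, hm _ (h₀₁.trans h₁₂)⟩ h₁₂ hne₁₂).not_ge
      (h (lt ⟨x₁, hm _ h₀₁⟩ ⟨x₂, hm _ (h₀₁.trans h₁₂)⟩ h₁₂ hne₁₂).le)
  · exact (lt ⟨x₀, hm _ specializes_rfl⟩ ⟨x₁, hm _ h₀₁⟩ h₀₁ hne₀₁).not_ge
      (h (lt ⟨x₀, hm _ specializes_rfl⟩ ⟨x₁, hm _ h₀₁⟩ h₀₁ hne₀₁).le)

omit [IsReduced C] [IsLocallyNoetherian C] in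
theorem chain_affine (hC : NoChain C) {U₀ : C.Opens} (hU₀ : IsAffineOpen U₀) (q₀ q₁ q₂ : Ideal Γ(C, U₀))
    (h₀ : q₀.IsPrime) (h₁ : q₁.IsPrime) (h₂ : q₂.IsPrime) (l₁ : q₀ < q₁) (l₂ : q₁ < q₂) : False := by
  have hinj := hU₀.fromSpec.isOpenEmbedding.injective
  refine hC (hU₀.fromSpec ⟨q₀, h₀⟩) (hU₀.fromSpec ⟨q₁, h₁⟩) (hU₀.fromSpec ⟨q₂, h₂⟩) ?_ ?_ ?_ ?_
  · exact ((PrimeSpectrum.le_iff_specializes ⟨q₀, h₀⟩ ⟨q₁, h₁⟩).1 l₁.le).map hU₀.fromSpec.continuous
  · exact ((PrimeSpectrum.le_iff_specializes ⟨q₁, h₁⟩ ⟨q₂, h₂⟩).1 l₂.le).map hU₀.fromSpec.continuous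
  · exact fun e => l₁.ne (congrArg PrimeSpectrum.asIdeal (hinj e))
  · exact fun e => l₂.ne (congrArg PrimeSpectrum.asIdeal (hinj e))

variable (hsn : HTop.IsSeminormal C) (d : D ⟶ C) [IsClosedImmersion d] [IsReduced D]
  (hd : ∀ x : C, ¬ IsRegularLocalRing (C.presheaf.stalk x) → x ∈ Set.range d)

theorem app_injective (U₀ : C.Opens) : Function.Injective (ν.app U₀) :=
  SeminormResLib.app_injective_of_surjective ν U₀

include hU hU' hsn hd in
theorem ker_le_cond {U₀ : C.Opens} (hU₀ : IsAffineOpen U₀) :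
    RingHom.ker (d.app U₀).hom ≤ cond (ν.app U₀).hom := by
  obtain ⟨t, ht, hle⟩ := exists_t_base U hU hU₀
  have hnzd := eq_zero_of_mul ν U hU' hU₀ ht
  rw [← (cond_isRadical (ν.app U₀).hom (AWNLib.isSeminormal_iff.1 hsn ⟨U₀, hU₀⟩) (app_injective ν U₀)).radical,
    Ideal.radical_eq_sInf]
  refine le_sInf fun p ⟨hp, hpp⟩ a ha => ?_
  haveI := hpp
  let P : PrimeSpectrum Γ(C, U₀) := ⟨p, hpp⟩
  have hmem : hU₀.fromSpec P ∈ Set.range d := by
    refine hd _ fun hreg => ?_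
    haveI := hreg
    letI := C.presheaf.algebra_section_stalk ⟨hU₀.fromSpec P, fromSpec_mem hU₀ P⟩
    haveI : IsLocalization.AtPrime (C.presheaf.stalk (hU₀.fromSpec P)) p :=
      hU₀.isLocalization_stalk' P (fromSpec_mem hU₀ P)
    let e := (IsLocalization.algEquiv p.primeCompl (C.presheaf.stalk (hU₀.fromSpec P)) (Localization.AtPrime p)).toRingEquiv
    haveI : IsRegularLocalRing (Localization.AtPrime p) := IsRegularLocalRing.of_ringEquiv e
    haveI := CommAlgDim.isDomain_of_isRegularLocalRing (Localization.AtPrime p)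
    haveI := NormalLib.isIntegrallyClosed_of_isRegularLocalRing (Localization.AtPrime p)
    refine not_cond_le (ν.app U₀).hom (app_injective ν U₀) (ν.finite_app U₀ hU₀) t hnzd
      (exists_pow_mul ν U hU' hU₀ ht hle) p (fun h0 => ?_) hp
    obtain ⟨u, hu⟩ := (IsLocalization.map_eq_zero_iff p.primeCompl _ t).1 h0
    have h2 := congrArg (ν.app U₀) hu
    rw [map_mul, map_zero, mul_comm] at h2
    exact u.2 ((app_injective ν U₀ ((hnzd _ h2).trans (map_zero _).symm)).symm ▸ p.zero_mem)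
  obtain ⟨w, hw⟩ := hmem
  obtain ⟨R, rfl⟩ := exists_fromSpec (hU₀.preimage d) (show w ∈ d ⁻¹ᵁ U₀ from (hw ▸ fromSpec_mem hU₀ P : d w ∈ U₀))
  rw [PinchBCLib.fromSpec_comap d hU₀] at hw
  have : p = Ideal.comap (d.app U₀).hom R.asIdeal :=
    (congrArg PrimeSpectrum.asIdeal (hU₀.fromSpec.isOpenEmbedding.injective hw)).symm
  rw [this, Ideal.mem_comap, show (d.app U₀).hom a = 0 from ha]
  exact zero_mem _

theorem isPushout_chart {X Y S T : Scheme.{u}} {f : X ⟶ S} {g : T ⟶ S} {f' : Y ⟶ X} {g' : Y ⟶ T}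
    (H : IsPullback f' g' f g) {W₀ : S.Opens} (hW : IsAffineOpen W₀) {A : X.Opens} (hA : IsAffineOpen A)
    {V : T.Opens} (hV : IsAffineOpen V) (eA : A ≤ f ⁻¹ᵁ W₀) (eV : V ≤ g ⁻¹ᵁ W₀) (P : Y.Opens)
    (hP : P = f' ⁻¹ᵁ A ⊓ g' ⁻¹ᵁ V) :
    IsPushout (f.appLE W₀ A eA) (g.appLE W₀ V eV) (f'.appLE A P (by simp [hP])) (g'.appLE V P (by simp [hP])) := by
  haveI := isIso_pushoutSection_of_isAffineOpen H eV eA hP hW hV hA
  exact (isIso_pushoutSection_iff H eV eA hP).mp inferInstance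

abbrev ιZ : pullback ν d ⟶ Cn := pullback.fst ν d
abbrev qZ : pullback ν d ⟶ D := pullback.snd ν d

include hU hU' hsn hd in
theorem secProp {U₀ : C.Opens} (hU₀ : IsAffineOpen U₀) :
    PinchBCLib.SecProp (ι := ιZ ν d) (q := qZ ν d) (π := ν) (ι' := d) pullback.condition U₀ := by
  refine ⟨fun p hp _ => app_injective ν U₀ (hp.trans (map_zero _).symm), fun s t hst => ?_⟩
  obtain ⟨a, rfl⟩ := d.app_surjective U₀ hU₀ t
  have H := isPushout_chart (IsPullback.of_hasPullback ν d) hU₀ (hU₀.preimage ν) (hU₀.preimage d) le_rfl le_rfl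
    (ιZ ν d ⁻¹ᵁ ν ⁻¹ᵁ U₀) (by
      rw [← Scheme.Hom.comp_preimage, ← Scheme.Hom.comp_preimage, pullback.condition, inf_idem])
  simp only [← Scheme.Hom.app_eq_appLE] at H
  have h0 : (ιZ ν d).app (ν ⁻¹ᵁ U₀) (s - ν.app U₀ a) = 0 := by
    rw [map_sub, sub_eq_zero, hst]
    exact (congr($(H.w) a)).symm
  have hmem := ker_le H (d.app_surjective U₀ hU₀) ((RingHom.ker (d.app U₀).hom).map (ν.app U₀).hom)
    (fun a ha => Ideal.mem_map_of_mem _ ha) h0
  obtain ⟨j, hj, hj'⟩ := map_le_cond (ν.app U₀).hom (ker_le_cond ν U hU hU' hsn d hd hU₀) hmem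
  refine ⟨a + j, ?_, ?_⟩
  · rw [map_add, show ν.app U₀ j = _ from hj', add_sub_cancel]
  · rw [map_add, add_eq_left]
    haveI : _root_.IsReduced Γ(D, d ⁻¹ᵁ U₀) := inferInstance
    refine IsReduced.eq_zero _ ((nilpotent_iff_mem_prime).2 fun Q hQ => ?_)
    have hi : (ν.app U₀).hom.IsIntegral := (ν.finite_app U₀ hU₀).to_isIntegral
    obtain ⟨R, hR⟩ := hi.comap_surjective (app_injective ν U₀) ⟨Q.comap (d.app U₀).hom, Ideal.IsPrime.comap _⟩
    have hker : (RingHom.ker (d.app U₀).hom).map (ν.app U₀).hom ≤ R.asIdeal := by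
      rw [Ideal.map_le_iff_le_comap]
      intro z hz
      show z ∈ (PrimeSpectrum.comap (ν.app U₀).hom R).asIdeal
      rw [hR]
      show (d.app U₀).hom z ∈ Q
      rw [show (d.app U₀).hom z = 0 from hz]
      exact zero_mem _
    have : j ∈ (PrimeSpectrum.comap (ν.app U₀).hom R).asIdeal :=
      show (ν.app U₀).hom j ∈ R.asIdeal from hj'.symm ▸ hker hmem
    rw [hR] at this
    exact this

include hU hU' hsn hd in
theorem isPushout : IsPushout (ιZ ν d) (qZ ν d) ν d := by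
  have hB : ∀ (W : C.Opens) (x : C), x ∈ W → ∃ U₁ : C.Opens, IsAffineOpen U₁ ∧ x ∈ U₁ ∧ U₁ ≤ W ∧
      PinchBCLib.SecProp (ι := ιZ ν d) (q := qZ ν d) (π := ν) (ι' := d) pullback.condition U₁ := fun W x hx => by
    obtain ⟨U₁, h1, h2, h3⟩ := exists_isAffineOpen_mem_and_subset (U := W) hx
    exact ⟨U₁, h1, h2, h3, secProp ν U hU hU' hsn d hd h1⟩
  exact isPushout_of_ringedSpace pullback.condition (PinchBCLib.isPushout_ringedSpace pullback.condition hB)
    (PinchBCLib.surj pullback.condition hB)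

theorem fromSpecResidueField_appLE {x : C} {U₀ : C.Opens} (hx : x ∈ U₀) (e : ⊤ ≤ C.fromSpecResidueField x ⁻¹ᵁ U₀) :
    (C.fromSpecResidueField x).appLE U₀ ⊤ e =
      C.presheaf.germ U₀ x hx ≫ C.residue x ≫ (Scheme.ΓSpecIso (C.residueField x)).inv := by
  have h1 : (C.fromSpecResidueField x).appLE U₀ ⊤ e =
      (C.fromSpecStalk x).app U₀ ≫ (Spec.map (C.residue x)).appLE _ ⊤ e := Scheme.Hom.comp_appLE _ _ _ _ _
  rw [h1, Scheme.fromSpecStalk_app hx, Category.assoc, Category.assoc, Scheme.Hom.map_appLE,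
    Scheme.ΓSpecIso_inv_naturality]
  congr 2

include hU hU' hsn in
theorem isReduced_fiber (hC : NoChain C) (x : C) : IsReduced (ν.fiber x) := by
  obtain ⟨U₀, hU₀, hx, -⟩ := exists_isAffineOpen_mem_and_subset (X := C) (x := x) (U := ⊤) trivial
  haveI : IsNoetherianRing Γ(C, U₀) := IsLocallyNoetherian.component_noetherian ⟨U₀, hU₀⟩
  obtain ⟨P, rfl⟩ := exists_fromSpec hU₀ hx
  let x := hU₀.fromSpec P
  have e : (⊤ : (Spec (C.residueField x)).Opens) ≤ C.fromSpecResidueField x ⁻¹ᵁ U₀ := fun z _ => by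
    show C.fromSpecResidueField x z ∈ U₀
    rw [Scheme.fromSpecResidueField_apply]
    exact hx
  have H := isPushout_chart (IsPullback.of_hasPullback ν (C.fromSpecResidueField x)) hU₀ (hU₀.preimage ν)
    (isAffineOpen_top (Spec (C.residueField x))) le_rfl e ⊤ (by
      rw [← Scheme.Hom.comp_preimage, pullback.condition, Scheme.Hom.comp_preimage]
      refine (top_le_iff.1 (le_inf (fun z _ => ?_) le_top)).symm
      exact e trivial)
  simp only [← Scheme.Hom.app_eq_appLE ν] at H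
  haveI : IsAffine (ν.fiber x) := inferInstanceAs (IsAffine (pullback ν (C.fromSpecResidueField x)))
  suffices _root_.IsReduced Γ(ν.fiber x, ⊤) from
    haveI := (affine_isReduced_iff _).2 this
    isReduced_of_isOpenImmersion (ν.fiber x).isoSpec.hom
  let φ := (C.fromSpecResidueField x).appLE U₀ ⊤ e
  have hφ : ∀ a, φ a = (Scheme.ΓSpecIso (C.residueField x)).inv (C.residue x (C.presheaf.germ U₀ x hx a)) := fun a =>
    congr($(fromSpecResidueField_appLE hx e) a)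
  have hK : IsField Γ(Spec (C.residueField x), ⊤) :=
    (Scheme.ΓSpecIso (C.residueField x)).commRingCatIsoToRingEquiv.toMulEquiv.isField (Field.toIsField _)
  have hbij := ConcreteCategory.bijective_of_isIso (Scheme.ΓSpecIso (C.residueField x)).inv
  letI := C.presheaf.algebra_section_stalk ⟨x, hx⟩
  haveI : IsLocalization.AtPrime (C.presheaf.stalk x) P.asIdeal := hU₀.isLocalization_stalk' P hx
  have hker : ∀ a, φ a = 0 ↔ a ∈ P.asIdeal := fun a => by
    rw [hφ, ← map_zero (Scheme.ΓSpecIso (C.residueField x)).inv.hom]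
    rw [hbij.1.eq_iff]
    refine (IsLocalRing.residue_eq_zero_iff _).trans ?_
    exact (IsLocalization.AtPrime.to_map_mem_maximal_iff (C.presheaf.stalk x) P.asIdeal a :)
  by_cases hc : cond (ν.app U₀).hom ≤ P.asIdeal
  · obtain ⟨t, ht, hle⟩ := exists_t_base U hU hU₀
    obtain ⟨hmax, hmin⟩ := isMaximal_of_cond_le (ν.app U₀).hom (ν.finite_app U₀ hU₀) t
      (exists_pow_mul ν U hU' hU₀ ht hle) ht (chain_affine hC hU₀) P.asIdeal hc
    haveI := hmax
    have hA := AWNLib.isSeminormal_iff.1 hsn ⟨U₀, hU₀⟩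
    obtain ⟨s, hs, hsp⟩ := exists_mul_le_cond (ν.app U₀).hom (cond_isRadical _ hA (app_injective ν U₀)) P.asIdeal hmin
    have hk : RingHom.ker φ.hom = P.asIdeal := Ideal.ext hker
    refine isReduced_of_surjective H (fun z => ?_) (hk ▸ isRadical_map _ hA (app_injective ν U₀) _ hc s hs hsp)
    obtain ⟨w, rfl⟩ := hbij.2 z
    obtain ⟨w, rfl⟩ := IsLocalRing.residue_surjective w
    obtain ⟨⟨a, u⟩, hau⟩ := IsLocalization.surj P.asIdeal.primeCompl w
    obtain ⟨v, π, hπ, hv⟩ := Ideal.IsMaximal.exists_inv hmax u.2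
    refine ⟨v * a, ?_⟩
    have h1 : φ v * φ u = 1 := by
      rw [← map_mul, ← map_one φ.hom, ← hv, map_add, (hker π).2 hπ, add_zero]
    have h2 : φ a = (Scheme.ΓSpecIso (C.residueField x)).inv (C.residue x w) * φ u := by
      rw [hφ a, hφ u, ← map_mul, ← map_mul]
      exact congrArg (fun z => (Scheme.ΓSpecIso (C.residueField x)).inv (C.residue x z)) hau.symm
    rw [map_mul, h2, mul_left_comm, h1, mul_one]
    rfl
  · obtain ⟨s, hs, hsp⟩ := SetLike.not_le_iff_exists.1 hc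
    exact isReduced_of_mul_mem H hK s (fun h0 => hsp ((hker s).1 h0)) hs

end SNCurveLib
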